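import Groth.Prelude.Def_SymTen
import Mathlib.LinearAlgebra.PiTensorProduct.Basis
import Mathlib.GroupTheory.PGroup
import Mathlib.Algebra.CharP.Lemmas
import Mathlib.Algebra.CharP.Algebra
import Mathlib.FieldTheory.Finiteness
import Mathlib.LinearAlgebra.FiniteDimensional.Basic

/-! The product of a symmetric tensor of degree `d` in a purely inseparable extension whose exponent divides `d`. -/

set_option autoImplicit false

universe u

open scoped TensorProduct

namespace Groth.Agent.ChowMon9

/-- A sum invariant under a finite `p`-group, in characteristic `p`, is the sum over the fixed points. -/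
theorem sum_eq_sum_fixed {G α R : Type*} [Group G] [Finite G] [Fintype α] [MulAction G α] [CommRing R] {p : ℕ}
    [Fact p.Prime] [CharP R p] (hG : IsPGroup p G) [DecidablePred fun a : α => a ∈ MulAction.fixedPoints G α]
    (F : α → R) (hF : ∀ (g : G) a, F (g • a) = F a) :
    ∑ a, F a = ∑ a ∈ Finset.univ.filter (fun a => a ∈ MulAction.fixedPoints G α), F a := by
  classical
  rw [← Finset.sum_filter_add_sum_filter_not Finset.univ (fun a => a ∈ MulAction.fixedPoints G α) F]
  conv_rhs => rw [← add_zero (Finset.sum _ _)]
  congr 1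
  refine (Finset.sum_congr rfl fun a _ => ?_).trans
    ((Finset.sum_fiberwise' (Finset.univ.filter fun a => a ∉ MulAction.fixedPoints G α)
      (fun a => (Quotient.mk (MulAction.orbitRel G α) a)) (fun ω => F ω.out)).symm.trans ?_)
  · obtain ⟨g, hg⟩ := Quotient.exact (Quotient.out_eq (Quotient.mk (MulAction.orbitRel G α) a))
    show F a = F (Quotient.mk (MulAction.orbitRel G α) a).out
    rw [← hg]
    exact (hF g a).symm
  · refine Finset.sum_eq_zero fun ω _ => ?_
    rw [Finset.sum_const, nsmul_eq_mul]
    by_cases h : ω.out ∈ MulAction.fixedPoints G α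
    · have : (Finset.univ.filter fun a => a ∉ MulAction.fixedPoints G α).filter
          (fun a => Quotient.mk (MulAction.orbitRel G α) a = ω) = ∅ := by
        ext a
        simp only [Finset.mem_filter, Finset.mem_univ, true_and, Finset.notMem_empty, iff_false, not_and]
        intro ha he
        rw [← ω.out_eq] at he
        obtain ⟨g, hg⟩ := Quotient.exact he
        exact ha (by rw [← hg]; show g • ω.out ∈ _; rw [h g]; exact h)
      rw [this, Finset.card_empty, Nat.cast_zero, zero_mul]
    · have heq : (((Finset.univ.filter fun a => a ∉ MulAction.fixedPoints G α).filter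
          (fun a => Quotient.mk (MulAction.orbitRel G α) a = ω)) : Set α) = MulAction.orbit G ω.out := by
        ext a
        simp only [Finset.coe_filter, Finset.mem_filter, Finset.mem_univ, true_and, Set.mem_setOf_eq]
        constructor
        · rintro ⟨-, he⟩
          rw [← ω.out_eq] at he
          exact Quotient.exact he
        · intro ha
          refine ⟨fun hfix => h ?_, (Quotient.sound (s := MulAction.orbitRel G α) ha).trans ω.out_eq⟩
          obtain ⟨g, rfl⟩ := ha
          have h1 := hfix g⁻¹
          simp only [inv_smul_smul] at h1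
          rw [h1]
          exact hfix
      obtain ⟨n, hn⟩ := hG.card_orbit ω.out
      have hn0 : n ≠ 0 := fun h0 => h (by
        rw [h0, pow_zero, Nat.card_coe_set_eq, Set.ncard_eq_one] at hn
        obtain ⟨b, hb⟩ := hn
        intro g
        have h1 : g • ω.out ∈ ({b} : Set α) := hb ▸ MulAction.mem_orbit _ _
        have h2 : ω.out ∈ ({b} : Set α) := hb ▸ MulAction.mem_orbit_self _
        exact h1.trans h2.symm)
      rw [← Set.ncard_coe_finset, heq, ← Nat.card_coe_set_eq, hn, Nat.cast_pow, CharP.cast_eq_zero,
        zero_pow hn0, zero_mul]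

variable (K : Type u) [Field K] {L : Type u} [Field L] [Algebra K L] [FiniteDimensional K L]

theorem mult_mem_range (p n d : ℕ) [ExpChar K p] (hd : p ^ n ∣ d) (hd0 : 0 < d)
    (hpow : ∀ z : L, z ^ p ^ n ∈ (algebraMap K L).range) (t : ⨂[K] _ : Fin d, L) (ht : t ∈ SymTen.TS K L d) :
    PiTensorProduct.lift (MultilinearMap.mkPiAlgebra K (Fin d) L) t ∈ (algebraMap K L).range := by
  classical
  obtain hp | rfl := expChar_is_prime_or_one K p
  swap
  · simpa using hpow (PiTensorProduct.lift (MultilinearMap.mkPiAlgebra K (Fin d) L) t)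
  haveI : Fact p.Prime := ⟨hp⟩
  haveI : CharP K p := by
    rcases ‹ExpChar K p› with _ | ⟨hprime⟩
    · exact absurd hp Nat.not_prime_one
    · assumption
  haveI : CharP L p := charP_of_injective_algebraMap (algebraMap K L).injective p
  obtain ⟨m, hm⟩ := hd
  set q := p ^ n with hq
  haveI : NeZero q := ⟨(pow_pos hp.pos n).ne'⟩
  let e : Fin d ≃ Fin m × ZMod q := Fintype.equivOfCardEq (by simp [hm, mul_comm])
  let v := Module.finBasis K L
  let b := Basis.piTensorProduct fun _ : Fin d => v
  let s : ZMod q → Equiv.Perm (Fin d) := fun a => (e.trans ((Equiv.refl _).prodCongr (Equiv.addRight a))).trans e.symm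
  have hinv : ∀ (σ : Equiv.Perm (Fin d)) f, b.repr t (f ∘ σ) = b.repr t f := by
    intro σ f
    have hcomp : (b.repr.toLinearMap ∘ₗ (PiTensorProduct.reindex K (fun _ : Fin d => L) σ).toLinearMap) =
        (Finsupp.lmapDomain K K fun g : Fin d → Fin (Module.finrank K L) => g ∘ σ.symm) ∘ₗ b.repr.toLinearMap := by
      refine b.ext fun g => ?_
      simp only [LinearMap.coe_comp, LinearEquiv.coe_coe, Function.comp_apply, b.repr_self,
        Finsupp.lmapDomain_apply, Finsupp.mapDomain_single]
      rw [show (PiTensorProduct.reindex K (fun _ : Fin d => L) σ) (b g) = b (g ∘ σ.symm) from by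
        simp only [b, Basis.piTensorProduct_apply, PiTensorProduct.reindex_tprod]; rfl, b.repr_self]
    have h1 := LinearMap.congr_fun hcomp t
    simp only [LinearMap.coe_comp, LinearEquiv.coe_coe, Function.comp_apply, ht σ, Finsupp.lmapDomain_apply] at h1
    have hΦ : Function.Injective fun g : Fin d → Fin (Module.finrank K L) => g ∘ σ.symm := fun g g' h => by
      funext i
      simpa using congrFun h (σ i)
    conv_rhs => rw [h1, show f = (fun g : Fin d → Fin (Module.finrank K L) => g ∘ σ.symm) (f ∘ σ) from by
      funext i; simp, Finsupp.mapDomain_apply hΦ]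
  let F : (Fin d → Fin (Module.finrank K L)) → L := fun f => b.repr t f • ∏ i, v (f i)
  have hsum : PiTensorProduct.lift (MultilinearMap.mkPiAlgebra K (Fin d) L) t = ∑ f, F f := by
    conv_lhs => rw [← b.sum_repr t]
    simp [F, b]
  rw [hsum]
  let : MulAction (Multiplicative (ZMod q)) (Fin d → Fin (Module.finrank K L)) :=
    { smul := fun a f => f ∘ s a.toAdd
      one_smul := fun f => by
        funext i
        show f (e.symm ((e i).1, (e i).2 + 0)) = f i
        simp
      mul_smul := fun a a' f => by
        funext i
        show f (e.symm ((e i).1, (e i).2 + (a.toAdd + a'.toAdd))) =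
          f (e.symm ((e (e.symm ((e i).1, (e i).2 + a.toAdd))).1, (e (e.symm ((e i).1, (e i).2 + a.toAdd))).2 + a'.toAdd))
        simp [add_assoc] }
  have hG : IsPGroup p (Multiplicative (ZMod q)) := IsPGroup.of_card (n := n) (by
    rw [Nat.card_congr Multiplicative.toAdd, Nat.card_zmod])
  rw [sum_eq_sum_fixed hG F fun a f => by
    show b.repr t (f ∘ s a.toAdd) • ∏ i, v (f (s a.toAdd i)) = _
    rw [hinv, Equiv.prod_comp (s a.toAdd) fun i => v (f i)]]
  refine Subring.sum_mem _ fun f hf => ?_
  rw [Finset.mem_filter] at hf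
  have hfix : ∀ j a, f (e.symm (j, a)) = f (e.symm (j, 0)) := fun j a => by
    have := congrFun (hf.2 (Multiplicative.ofAdd a)) (e.symm (j, 0))
    show f (e.symm (j, a)) = _
    rw [← this]
    show f (e.symm (j, a)) = f (e.symm ((e (e.symm (j, 0))).1, (e (e.symm (j, 0))).2 + a))
    simp
  have hprod : ∏ i, v (f i) = ∏ j, (v (f (e.symm (j, 0)))) ^ q := by
    rw [← e.symm.prod_comp, Fintype.prod_prod_type]
    refine Finset.prod_congr rfl fun j _ => ?_
    rw [Finset.prod_congr rfl fun a _ => by rw [hfix j a], Finset.prod_const, Finset.card_univ, ZMod.card]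
  show b.repr t f • ∏ i, v (f i) ∈ _
  rw [hprod, Algebra.smul_def]
  exact Subring.mul_mem _ ⟨_, rfl⟩ (Subring.prod_mem _ fun j _ => hpow _)

end Groth.Agent.ChowMon9
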