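import Groth.Agent.HTopAwn.SchemeProps
import Groth.Agent.ChowMon9.SymMult

/-! Residually trivial elements of a radicial extension of a seminormal ring; residual values of symmetric tensors. -/

set_option autoImplicit false
set_option linter.style.haveILetI false
set_option backward.isDefEq.respectTransparency false
set_option backward.isDefEq.respectTransparency.types false

universe u

open AlgebraicGeometry CategoryTheory Groth.Agent.MorLib Groth.Agent.MorLib.RUH HTop
open scoped TensorProduct

namespace Groth.Agent.ChowMon9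

variable {C C' : Type u} [CommRing C] [CommRing C'] (g : C →+* C')

/-- The map of residue fields at `q`. -/
noncomputable abbrev resMap (q : PrimeSpectrum C') :
    (PrimeSpectrum.comap g q).asIdeal.ResidueField →+* q.asIdeal.ResidueField :=
  Ideal.ResidueField.map (PrimeSpectrum.comap g q).asIdeal q.asIdeal g rfl

theorem resMap_algebraMap (q : PrimeSpectrum C') (a : C) :
    resMap g q (algebraMap C _ a) = algebraMap C' q.asIdeal.ResidueField (g a) := by
  simp [resMap]

theorem exists_frac_of_mem_range (q : PrimeSpectrum C') {b : C'}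
    (hb : algebraMap C' q.asIdeal.ResidueField b ∈ (resMap g q).range) :
    ∃ a s : C, g s ∉ q.asIdeal ∧ g s * b - g a ∈ q.asIdeal := by
  obtain ⟨y, hy⟩ := hb
  let p := (PrimeSpectrum.comap g q).asIdeal
  obtain ⟨a', s', hs', rfl⟩ := IsFractionRing.div_surjective (C ⧸ p) y
  obtain ⟨a, rfl⟩ := Ideal.Quotient.mk_surjective a'
  obtain ⟨s, rfl⟩ := Ideal.Quotient.mk_surjective s'
  have hs : g s ∉ q.asIdeal := fun h =>
    nonZeroDivisors.ne_zero hs' (Ideal.Quotient.eq_zero_iff_mem.2 h)
  refine ⟨a, s, hs, ?_⟩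
  rw [← Ideal.algebraMap_residueField_eq_zero, map_sub, map_mul, ← hy, map_div₀]
  rw [show algebraMap (C ⧸ p) p.ResidueField (Ideal.Quotient.mk p a) = algebraMap C _ a from rfl,
    show algebraMap (C ⧸ p) p.ResidueField (Ideal.Quotient.mk p s) = algebraMap C _ s from rfl,
    resMap_algebraMap, resMap_algebraMap,
    mul_div_cancel₀ _ (fun h => hs (Ideal.algebraMap_residueField_eq_zero.1 h)), sub_self]

/-- Elements all of whose residual values come from the base lie in the base, if it is seminormal. -/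
theorem mem_range_of_residual (hC : IsSeminormalRing C) [IsReduced C']
    (hu : FlatMor.IsUnivHomeo (Spec.map (CommRingCat.ofHom g))) (y : C')
    (hy : ∀ q : PrimeSpectrum C', algebraMap C' q.asIdeal.ResidueField y ∈ (resMap g q).range) :
    y ∈ g.range := by
  obtain ⟨hi, hr, hs⟩ := (isUnivHomeo_SpecMap_iff g).mp hu
  haveI := HTopAwn.isReduced_of_seminormal hC
  have hinj : Function.Injective g := by
    rw [injective_iff_map_eq_zero]
    intro a ha
    refine IsNilpotent.eq_zero (nilpotent_iff_mem_prime.mpr fun J hJ => ?_)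
    obtain ⟨q, hq⟩ := hs ⟨J, hJ⟩
    rw [← show q.asIdeal.comap g = J from congrArg PrimeSpectrum.asIdeal hq, Ideal.mem_comap, ha]
    exact zero_mem _
  letI := g.toAlgebra
  haveI : Algebra.IsIntegral C C' := ⟨hi⟩
  let D : Subalgebra C C' :=
    { carrier := {b | ∀ q : PrimeSpectrum C', algebraMap C' q.asIdeal.ResidueField b ∈ (resMap g q).range}
      mul_mem' := fun ha hb q => by rw [map_mul]; exact Subring.mul_mem _ (ha q) (hb q)
      one_mem' := fun q => by rw [map_one]; exact Subring.one_mem _
      add_mem' := fun ha hb q => by rw [map_add]; exact Subring.add_mem _ (ha q) (hb q)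
      zero_mem' := fun q => by rw [map_zero]; exact Subring.zero_mem _
      algebraMap_mem' := fun a q => ⟨algebraMap C _ a, resMap_algebraMap g q a⟩ }
  haveI : IsReduced D := isReduced_of_injective D.val Subtype.val_injective
  have hgood : HTopAwn.Good (algebraMap C D) := HTopAwn.good_subalgebra D ⟨hi, hr⟩
  haveI : Algebra.IsIntegral C D := ⟨hgood.1⟩
  have hDi : (D.val.toRingHom).IsIntegral := RingHom.IsIntegral.tower_top (algebraMap C D) D.val.toRingHom hi
  by_contra hb₀
  obtain ⟨b, hb, hcase⟩ := exists_step (A := C) (B := D) (fun a a' h => hinj (congrArg Subtype.val h))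
    (injective_comap_of_radicial hgood.2) (fun _ => False) (fun _ h => h.elim) (fun q b => by
      obtain ⟨Q, hQ⟩ := hDi.comap_surjective Subtype.val_injective q
      obtain ⟨a, s, hs, hmem⟩ := exists_frac_of_mem_range g Q (b.2 Q)
      subst hQ
      refine ⟨1, Or.inl rfl, 0, a, s, hs, ?_⟩
      rw [pow_zero, pow_one]
      exact hmem) ⟨y, hy⟩ (by
        rintro ⟨a, ha⟩
        exact hb₀ ⟨a, congrArg Subtype.val ha⟩)
  rcases hcase with ⟨⟨x, hx⟩, ⟨z, hz⟩⟩ | ⟨e, he, -⟩
  · apply hb
    obtain ⟨a, ⟨ha2, ha3⟩, -⟩ := hC x z (hinj (congrArg Subtype.val (show algebraMap C D (x ^ 3) = algebraMap C D (z ^ 2) by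
      rw [map_pow, map_pow, hx, hz]; ring)))
    exact ⟨a, HTopAwn.eq_of_sq_cube (by rw [← hx, ha2, map_pow]) (by rw [← hz, ha3, map_pow])⟩
  · exact he

theorem exists_pow_mem (hr : Radicial g) (q : PrimeSpectrum C') (p : ℕ)
    [ExpChar (PrimeSpectrum.comap g q).asIdeal.ResidueField p] (b : C') :
    ∃ n : ℕ, algebraMap C' q.asIdeal.ResidueField b ^ p ^ n ∈ (resMap g q).range := by
  obtain ⟨e, he, n, a, s, hs, hmem⟩ := exists_pow_of_radicial g hr q b
  have hval : algebraMap C' q.asIdeal.ResidueField b ^ e ^ n ∈ (resMap g q).range := by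
    refine ⟨algebraMap C _ a / algebraMap C _ s, ?_⟩
    rw [map_div₀, resMap_algebraMap, resMap_algebraMap,
      div_eq_iff (fun h => hs (Ideal.algebraMap_residueField_eq_zero.1 h)), eq_comm, ← sub_eq_zero,
      ← map_pow, ← map_mul, ← map_sub, Ideal.algebraMap_residueField_eq_zero, mul_comm]
    exact hmem
  rcases he with rfl | ⟨hprime, hmem'⟩
  · exact ⟨0, by simpa using hval⟩
  · have h0 : (e : (PrimeSpectrum.comap g q).asIdeal.ResidueField) = 0 := by
      refine (resMap g q).injective ?_
      rw [map_natCast, map_zero, ← map_natCast (algebraMap C' q.asIdeal.ResidueField)]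
      exact Ideal.algebraMap_residueField_eq_zero.2 hmem'
    haveI : CharP (PrimeSpectrum.comap g q).asIdeal.ResidueField e := by
      exact (CharP.charP_iff_prime_eq_zero hprime).2 h0
    haveI : ExpChar (PrimeSpectrum.comap g q).asIdeal.ResidueField e := ExpChar.prime hprime
    obtain rfl := ExpChar.eq ‹ExpChar _ p› ‹ExpChar _ e›
    exact ⟨n, hval⟩

theorem isPurelyInseparable_resMap (hr : Radicial g) (q : PrimeSpectrum C') :
    letI := (resMap g q).toAlgebra
    IsPurelyInseparable (PrimeSpectrum.comap g q).asIdeal.ResidueField q.asIdeal.ResidueField := by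
  letI := (resMap g q).toAlgebra
  obtain ⟨p, hp⟩ := ExpChar.exists (PrimeSpectrum.comap g q).asIdeal.ResidueField
  rw [isPurelyInseparable_iff_pow_mem _ p]
  intro z
  obtain ⟨a', s', -, rfl⟩ := IsFractionRing.div_surjective (C' ⧸ q.asIdeal) z
  obtain ⟨a, rfl⟩ := Ideal.Quotient.mk_surjective a'
  obtain ⟨s, rfl⟩ := Ideal.Quotient.mk_surjective s'
  obtain ⟨n, hn⟩ := exists_pow_mem g hr q p a
  obtain ⟨m, hm⟩ := exists_pow_mem g hr q p s
  refine ⟨n + m, ?_⟩
  have h1 : algebraMap C' q.asIdeal.ResidueField a ^ p ^ (n + m) ∈ (resMap g q).range := by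
    rw [pow_add, pow_mul]; exact Subring.pow_mem _ hn _
  have h2 : algebraMap C' q.asIdeal.ResidueField s ^ p ^ (n + m) ∈ (resMap g q).range := by
    rw [add_comm, pow_add, pow_mul]; exact Subring.pow_mem _ hm _
  obtain ⟨x, hx⟩ := h1
  obtain ⟨y, hy⟩ := h2
  exact ⟨x / y, by rw [RingHom.algebraMap_toAlgebra, map_div₀, hx, hy, div_pow]; rfl⟩

theorem pow_finrank_mem {K L : Type u} [Field K] [Field L] [Algebra K L] [FiniteDimensional K L]
    [IsPurelyInseparable K L] (p : ℕ) [ExpChar K p] :
    ∃ n, Module.finrank K L = p ^ n ∧ ∀ z : L, z ^ p ^ n ∈ (algebraMap K L).range := by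
  obtain ⟨n, hn⟩ := IsPurelyInseparable.finrank_eq_pow K L p
  refine ⟨n, hn, fun z => ?_⟩
  obtain ⟨m, y, hm⟩ := IsPurelyInseparable.minpoly_eq_X_pow_sub_C K p z
  have hy : z ^ p ^ m = algebraMap K L y := by
    have := minpoly.aeval K z
    rw [hm, map_sub, map_pow, Polynomial.aeval_X, Polynomial.aeval_C, sub_eq_zero] at this
    exact this
  rcases expChar_is_prime_or_one K p with hp | rfl
  · have hdvd : p ^ m ∣ p ^ n := by
      rw [← hn, ← Polynomial.natDegree_X_pow_sub_C (n := p ^ m) (r := y), ← hm]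
      exact minpoly.degree_dvd (Algebra.IsIntegral.isIntegral z)
    obtain ⟨c, hc⟩ := Nat.le.dest ((Nat.pow_dvd_pow_iff_le_right hp.one_lt).1 hdvd)
    rw [← hc, pow_add, pow_mul, hy, ← map_pow]
    exact ⟨_, rfl⟩
  · exact ⟨y, by simpa using hy.symm⟩

theorem mult_symTen_mem (A : Type u) [CommRing A] {B : Type u} [CommRing B] [Algebra A B] {K L : Type u} [Field K]
    [Field L] [Algebra K L] [Algebra A K] [Algebra A L] [IsScalarTower A K L] [FiniteDimensional K L]
    [IsPurelyInseparable K L] (d : ℕ) (hd0 : 0 < d) (hd : Module.finrank K L ∣ d) (ψ : B →ₐ[A] L)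
    (x : ⨂[A] _ : Fin d, B) (hx : x ∈ SymTen.TS A B d) :
    ψ (PiTensorProduct.lift (MultilinearMap.mkPiAlgebra A (Fin d) B) x) ∈ (algebraMap K L).range := by
  let Θ : (⨂[A] _ : Fin d, B) →ₗ[A] (⨂[K] _ : Fin d, L) :=
    PiTensorProduct.lift (((PiTensorProduct.tprod K (s := fun _ : Fin d => L)).restrictScalars A).compLinearMap
      fun _ => ψ.toLinearMap)
  have hΘ : ∀ f, Θ (PiTensorProduct.tprod A f) = PiTensorProduct.tprod K fun i => ψ (f i) := fun f => by simp [Θ]
  have hperm : ∀ σ y, Θ (PiTensorProduct.reindex A (fun _ : Fin d => B) σ y) =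
      PiTensorProduct.reindex K (fun _ : Fin d => L) σ (Θ y) := fun σ y => by
    induction y using PiTensorProduct.induction_on with
    | smul_tprod r f =>
      rw [map_smul, map_smul, map_smul, PiTensorProduct.reindex_tprod, hΘ, hΘ,
        ← algebraMap_smul K r (PiTensorProduct.tprod K fun i => ψ (f i)), map_smul,
        PiTensorProduct.reindex_tprod, algebraMap_smul]
    | add y z hy hz => simp only [map_add, hy, hz]
  have hmult : ∀ y, ψ (PiTensorProduct.lift (MultilinearMap.mkPiAlgebra A (Fin d) B) y) =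
      PiTensorProduct.lift (MultilinearMap.mkPiAlgebra K (Fin d) L) (Θ y) := fun y => by
    induction y using PiTensorProduct.induction_on with
    | smul_tprod r f =>
      rw [map_smul, map_smul, map_smul, hΘ, ← algebraMap_smul K r (PiTensorProduct.tprod K fun i => ψ (f i)),
        map_smul, algebraMap_smul]
      simp
    | add y z hy hz => simp only [map_add, hy, hz]
  obtain ⟨p, hp⟩ := ExpChar.exists K
  obtain ⟨n, hn, hpow⟩ := pow_finrank_mem (K := K) (L := L) p
  rw [hmult]
  exact mult_mem_range K p n d (hn ▸ hd) hd0 hpow _ fun σ => by rw [← hperm, hx σ]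

end Groth.Agent.ChowMon9
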